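import Groth.Agent.SerreSplit.Basic
import Mathlib

/-!
Serre splitting and Bass cancellation for projective modules of rank above the dimension.
-/

set_option autoImplicit false
set_option linter.style.haveILetI false

universe u

namespace Groth.Agent.SerreSplit

open TopologicalSpace

variable {R : Type u} [CommRing R]

theorem noetherianSpace_maximal [IsNoetherianRing R] : NoetherianSpace (MaximalSpectrum R) :=
  Topology.IsInducing.noetherianSpace (i := MaximalSpectrum.toPrimeSpectrum) ⟨rfl⟩

theorem eq_empty_of_coheight [IsNoetherianRing R] {d : ℕ} (hdim : ringKrullDim R ≤ d)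
    {F : Set (MaximalSpectrum R)} (hF : ∀ Z : IrreducibleCloseds (MaximalSpectrum R),
      (Z : Set (MaximalSpectrum R)) ⊆ F → ((d + 1 : ℕ) : ℕ∞) ≤ Order.coheight Z) : F = ∅ := by
  refine Set.eq_empty_iff_forall_notMem.2 fun x hx => ?_
  have h1 := hF ⟨{x}, isIrreducible_singleton, isClosed_singleton⟩ (by simpa using hx)
  have h2 : topologicalKrullDim (MaximalSpectrum R) ≤ d :=
    ((⟨rfl⟩ : Topology.IsInducing (MaximalSpectrum.toPrimeSpectrum (R := R))).topologicalKrullDim_le).trans
      ((PrimeSpectrum.topologicalKrullDim_eq_ringKrullDim (R := R)).le.trans hdim)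
  have h3 := ((WithBot.coe_le_coe.2 h1).trans (Order.coheight_le_krullDim _)).trans h2
  norm_cast at h3
  omega

variable {P : Type u} [AddCommGroup P] [Module R P]

section proj

variable [Module.Finite R P] [Module.Projective R P]

theorem mem_smul_top_of_dual {I : Ideal R} {m : P} (h : ∀ φ : P →ₗ[R] R, φ m ∈ I) :
    m ∈ (I • ⊤ : Submodule R P) := by
  obtain ⟨N, f, g, -, -, hfg⟩ := Module.Finite.exists_comp_eq_id_of_projective R P
  rw [show m = f (g m) from (LinearMap.congr_fun hfg m).symm, pi_eq_sum_univ (g m), map_sum]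
  exact sum_mem fun i _ => by
    rw [map_smul]
    exact Submodule.smul_mem_smul (h ((LinearMap.proj i).comp g)) trivial

theorem Bq_eq_bot (x : MaximalSpectrum R) : Bq P x = ⊥ := by
  rw [eq_bot_iff, Submodule.span_le]
  rintro _ ⟨m, hm, rfl⟩
  exact (Submodule.Quotient.mk_eq_zero _).2 (mem_smul_top_of_dual hm)

theorem finrank_V {n : ℕ} (hrk : ∀ p : PrimeSpectrum R, Module.rankAtStalk (R := R) P p = n)
    (x : MaximalSpectrum R) :
    Module.finrank (R ⧸ x.asIdeal) ((P ⧸ (x.asIdeal • ⊤ : Submodule R P)) ⧸ Bq P x) = n := by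
  haveI := x.isMaximal
  letI : Field (R ⧸ x.asIdeal) := Ideal.Quotient.field x.asIdeal
  rw [(Submodule.quotEquivOfEqBot _ (Bq_eq_bot x)).finrank_eq,
    ← ((TensorProduct.quotTensorEquivQuotSMul P x.asIdeal).extendScalarsOfSurjective
      (Ideal.Quotient.mk_surjective : Function.Surjective (algebraMap R (R ⧸ x.asIdeal)))).finrank_eq]
  have h := Module.rankAtStalk_baseChange (R := R) (M := P) (⟨⊥, Ideal.isPrime_bot⟩ : PrimeSpectrum (R ⧸ x.asIdeal))
  rw [Module.rankAtStalk_eq_finrank_of_free, hrk] at h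
  exact h

end proj

theorem exists_dual_eq_one {t : P} (ht : ∀ x : MaximalSpectrum R, img x t ≠ 0) :
    ∃ φ : P →ₗ[R] R, φ t = 1 := by
  let I : Ideal R := LinearMap.range (LinearMap.applyₗ (R := R) (M₂ := R) t)
  have hI : I = ⊤ := by
    by_contra hne
    obtain ⟨M, hM, hle⟩ := Ideal.exists_le_maximal I hne
    exact ht ⟨M, hM⟩ (img_eq_zero.2 fun φ => hle ⟨φ, rfl⟩)
  obtain ⟨φ, hφ⟩ := (Ideal.eq_top_iff_one I).1 hI
  exact ⟨φ, hφ⟩

variable [NoetherianSpace (MaximalSpectrum R)]

theorem affine (p : P) (a : R) (hu : ∀ x : MaximalSpectrum R, a ∈ x.asIdeal → img x p ≠ 0) : ∀ k : ℕ,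
    (∀ x : MaximalSpectrum R, k ≤ Module.finrank (R ⧸ x.asIdeal) ((P ⧸ (x.asIdeal • ⊤ : Submodule R P)) ⧸ Bq P x)) →
    ∃ (t : P) (F' : Set (MaximalSpectrum R)), IsClosed F' ∧ (∀ x, img x (p + a • t) = 0 → x ∈ F') ∧
      ∀ Z : IrreducibleCloseds (MaximalSpectrum R), (Z : Set (MaximalSpectrum R)) ⊆ F' → (k : ℕ∞) ≤ Order.coheight Z := by
  classical
  intro k
  induction k with
  | zero => exact fun _ => ⟨0, Set.univ, isClosed_univ, fun _ _ => trivial, fun Z _ => by simp⟩
  | succ k ih =>
    intro hd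
    obtain ⟨t, F1, hF1c, hw1, hF1⟩ := ih fun x => by have := hd x; omega
    set w := p + a • t with hwdef
    obtain ⟨Q, G1, hG1c, hG1F1, hG1, hQ, hC⟩ := exists_pieces hF1c ∅
    choose m0 hm0 using fun x : MaximalSpectrum R => exists_not_mem_span x (Fin.elim0 : Fin 0 → P)
      (by have := hd x; omega)
    have hdep : Dep (R := R) (fun _ : Fin 1 => w) ⊆ F1 := fun x hx => by
      refine hw1 x ?_
      by_contra hne
      haveI := x.isMaximal
      letI : Field (R ⧸ x.asIdeal) := Ideal.Quotient.field x.asIdeal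
      exact hx (linearIndependent_unique_iff.2 hne)
    obtain ⟨u, F2, hF2c, huv, hdep2, hF2⟩ := main k 1 (fun _ => w) F1 hF1c Q (fun z hz => (hQ hz).1)
      (fun z => if img z w = 0 then m0 z else 0) (fun x => by have := hd x; omega) hdep
    obtain ⟨Q', G2, hG2c, hG2F2, hG2, hQ', hC'⟩ := exists_pieces hF2c F1
    obtain ⟨c, hc⟩ := Ideal.exists_forall_sub_mem_ideal
      (I := fun q : (Q ∪ Q' : Finset (MaximalSpectrum R)) => q.1.asIdeal)
      (fun i j hij => Ideal.isCoprime_iff_sup_eq.2 (i.1.isMaximal.coprime_of_ne j.1.isMaximal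
        fun e => hij (Subtype.ext (MaximalSpectrum.ext e))))
      (fun q => if q.1 ∈ Q then 1 else 0)
    have himg : ∀ x, img x (p + a • (t + c • u)) =
        img x w + (Ideal.Quotient.mk x.asIdeal (a * c)) • img x u := fun x => by
      rw [smul_add, ← add_assoc, ← hwdef, img_add, smul_smul, img_smul]
    refine ⟨t + c • u, Dep (R := R) (fun _ : Fin 1 => p + a • (t + c • u)) ∩ (G1 ∪ G2),
      (isClosed_Dep _).inter (hG1c.union hG2c), fun x hx => ⟨fun h => ?_, ?_⟩, fun Z hZ => ?_⟩
    · haveI := x.isMaximal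
      letI : Field (R ⧸ x.asIdeal) := Ideal.Quotient.field x.asIdeal
      exact linearIndependent_unique_iff.1 h hx
    · by_cases hxF1 : x ∈ F1
      · exact Or.inl (hG1 ⟨hxF1, Set.notMem_empty x⟩)
      by_cases hxF2 : x ∈ F2
      · exact Or.inr (hG2 ⟨hxF2, hxF1⟩)
      exfalso
      haveI := x.isMaximal
      letI : Field (R ⧸ x.asIdeal) := Ideal.Quotient.field x.asIdeal
      have h2 : x ∉ Dep (R := R) (Fin.snoc (fun _ : Fin 1 => w) u : Fin 2 → P) := fun hh =>
        (hdep2 hh).elim hxF1 hxF2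
      simp only [Dep, Set.mem_ofPred_eq, not_not] at h2
      have h3 := Fintype.linearIndependent_iff.1 h2 ![1, Ideal.Quotient.mk x.asIdeal (a * c)] (by
        rw [Fin.sum_univ_two, ← hx, himg]
        simp [Fin.snoc])
      exact one_ne_zero (h3 0)
    · obtain ⟨C, hCk, hle, q, hqPts, hqC⟩ : ∃ C : IrreducibleCloseds (MaximalSpectrum R),
          (k : ℕ∞) ≤ Order.coheight C ∧ Z ≤ C ∧ ∃ q, q ∈ Q ∪ Q' ∧ q ∈ C := by
        rcases isPreirreducible_iff_isClosed_union_isClosed.1 Z.isIrreducible.2 G1 G2 hG1c hG2c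
          (fun z hz => (hZ hz).2) with hz | hz
        · obtain ⟨C, hCsub, hle, q, hq, hqC⟩ := hC Z hz
          exact ⟨C, hF1 C hCsub, hle, q, Finset.mem_union_left _ hq, hqC⟩
        · obtain ⟨C, hCsub, hle, q, hq, hqC⟩ := hC' Z hz
          exact ⟨C, hF2 C hCsub, hle, q, Finset.mem_union_right _ hq, hqC⟩
      rcases hle.lt_or_eq with hlt | heq
      · calc ((k + 1 : ℕ) : ℕ∞) = k + 1 := by push_cast; rfl
          _ ≤ Order.coheight C + 1 := by gcongr
          _ ≤ Order.coheight Z := Order.coheight_add_one_le hlt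
      · exfalso
        subst heq
        haveI := q.isMaximal
        letI : Field (R ⧸ q.asIdeal) := Ideal.Quotient.field q.asIdeal
        have hq0 : img q (p + a • (t + c • u)) = 0 := by
          by_contra hne
          exact (hZ hqC).1 (linearIndependent_unique_iff.2 hne)
        rw [himg, map_mul, Ideal.Quotient.eq.2 (hc ⟨q, hqPts⟩)] at hq0
        by_cases hqQ : q ∈ Q
        · rw [if_pos hqQ, map_one, mul_one, huv q hqQ] at hq0
          by_cases hw0 : img q w = 0
          · rw [if_pos hw0, hw0, zero_add] at hq0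
            have ha : a ∉ q.asIdeal := fun ha => hu q ha (by
              rw [hwdef, img_add, img_smul, Ideal.Quotient.eq_zero_iff_mem.2 ha, zero_smul, add_zero] at hw0
              exact hw0)
            rcases smul_eq_zero.1 hq0 with h | h
            · exact ha (Ideal.Quotient.eq_zero_iff_mem.1 h)
            · exact hm0 q (h ▸ zero_mem _)
          · rw [if_neg hw0, show img q (0 : P) = 0 by simp [img], smul_zero, add_zero] at hq0
            exact hw0 hq0
        · rw [if_neg hqQ, map_zero, mul_zero, zero_smul, add_zero] at hq0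
          exact (hQ' ((Finset.mem_union.1 hqPts).resolve_left hqQ)).2 (hw1 q hq0)

variable [IsNoetherianRing R] [Module.Finite R P] [Module.Projective R P]
  {d n : ℕ} (hdim : ringKrullDim R ≤ d)
  (hrk : ∀ p : PrimeSpectrum R, Module.rankAtStalk (R := R) P p = n) (hnd : d < n)

include hdim hrk hnd

omit [NoetherianSpace (MaximalSpectrum R)] in
theorem exists_affine_unimodular (p : P) (a : R)
    (hu : ∀ x : MaximalSpectrum R, a ∈ x.asIdeal → ∃ φ : P →ₗ[R] R, φ p ∉ x.asIdeal) :
    ∃ (t : P) (φ : P →ₗ[R] R), φ (p + a • t) = 1 := by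
  haveI := noetherianSpace_maximal (R := R)
  obtain ⟨t, F, -, ht, hF⟩ := affine p a (fun x ha h => by
      obtain ⟨φ, hφ⟩ := hu x ha; exact hφ (img_eq_zero.1 h φ)) (d + 1) fun x => by
    rw [finrank_V hrk x]; omega
  exact ⟨t, exists_dual_eq_one fun x hx => by
    simpa [eq_empty_of_coheight hdim hF] using ht x hx⟩

omit [NoetherianSpace (MaximalSpectrum R)] in
theorem exists_unimodular : ∃ (t : P) (φ : P →ₗ[R] R), φ t = 1 := by
  obtain ⟨t, φ, h⟩ := exists_affine_unimodular hdim hrk hnd 0 1 fun x hx =>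
    absurd ((Ideal.eq_top_iff_one _).2 hx) x.isMaximal.ne_top
  exact ⟨t, φ, by simpa using h⟩

omit [NoetherianSpace (MaximalSpectrum R)] in
/-- Unimodular elements of `P × R` are moved to `(0, 1)` by automorphisms. -/
theorem exists_automorphism (ψ : P × R →ₗ[R] R) (u : P × R) (hψ : ψ u = 1) :
    ∃ σ : (P × R) ≃ₗ[R] (P × R), σ u = (0, 1) := by
  obtain ⟨p, a⟩ := u
  obtain ⟨t, φ, ht⟩ := exists_affine_unimodular hdim hrk hnd p a fun x ha => by
    refine ⟨ψ.comp (LinearMap.inl R P R), fun h => x.isMaximal.ne_top ((Ideal.eq_top_iff_one _).2 ?_)⟩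
    have : ψ (p, a) = ψ (p, 0) + a * ψ (0, 1) := by
      rw [show ((p, a) : P × R) = (p, 0) + a • (0, 1) by simp, map_add, map_smul, smul_eq_mul]
    rw [← hψ, this]
    exact add_mem h (Ideal.mul_mem_right _ _ ha)
  let T1 : (P × R) ≃ₗ[R] (P × R) :=
    { toFun := fun z => (z.1 + z.2 • t, z.2)
      map_add' := fun z w => by ext <;> simp [add_smul]; abel
      map_smul' := fun r z => by ext <;> simp [smul_add, smul_smul]
      invFun := fun z => (z.1 - z.2 • t, z.2)
      left_inv := fun z => by simp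
      right_inv := fun z => by simp }
  let T2 : (P × R) ≃ₗ[R] (P × R) :=
    { toFun := fun z => (z.1, z.2 + (1 - a) * φ z.1)
      map_add' := fun z w => by ext <;> simp; ring
      map_smul' := fun r z => by ext <;> simp; ring
      invFun := fun z => (z.1, z.2 - (1 - a) * φ z.1)
      left_inv := fun z => by simp
      right_inv := fun z => by simp }
  let T3 : (P × R) ≃ₗ[R] (P × R) :=
    { toFun := fun z => (z.1 - z.2 • (p + a • t), z.2)
      map_add' := fun z w => by ext <;> simp [add_smul]; abel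
      map_smul' := fun r z => Prod.ext (by simp only [Prod.smul_fst, Prod.smul_snd, smul_eq_mul, RingHom.id_apply]; module) rfl
      invFun := fun z => (z.1 + z.2 • (p + a • t), z.2)
      left_inv := fun z => by simp
      right_inv := fun z => by simp }
  refine ⟨(T1.trans T2).trans T3, ?_⟩
  show T3 (T2 (T1 (p, a))) = (0, 1)
  have h2 : T2 (T1 (p, a)) = (p + a • t, 1) := by
    show (p + a • t, a + (1 - a) * φ (p + a • t)) = _
    rw [ht, mul_one, add_sub_cancel]
  rw [h2]
  show (p + a • t - (1 : R) • (p + a • t), (1 : R)) = _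
  rw [one_smul, sub_self]

omit [NoetherianSpace (MaximalSpectrum R)] in
/-- Bass cancellation, one step. -/
theorem cancel_one {P' : Type u} [AddCommGroup P'] [Module R P'] (e : (P × R) ≃ₗ[R] (P' × R)) :
    Nonempty (P ≃ₗ[R] P') := by
  obtain ⟨σ, hσ⟩ := exists_automorphism hdim hrk hnd ((LinearMap.snd R P' R).comp e.toLinearMap) (e.symm (0, 1))
    (by simp)
  let f := σ.symm.trans e
  have hf : f (0, 1) = (0, 1) := by
    show e (σ.symm (0, 1)) = (0, 1)
    rw [← hσ, σ.symm_apply_apply, e.apply_symm_apply]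
  refine ⟨LinearEquiv.ofBijective
    ((LinearMap.fst R P' R).comp (f.toLinearMap.comp (LinearMap.inl R P R))) ⟨?_, fun q => ?_⟩⟩
  · refine (injective_iff_map_eq_zero _).2 fun z hz => ?_
    have h1 : f (z, 0) = (f (z, 0)).2 • f (0, 1) := by
      rw [hf]
      exact Prod.ext (hz.trans (by simp)) (by simp)
    rw [← map_smul] at h1
    simpa using congrArg Prod.fst (f.injective h1)
  · obtain ⟨⟨z, b⟩, hz⟩ := f.surjective (q, 0)
    refine ⟨z, ?_⟩
    have h1 : f (z, b) = f (z, 0) + b • f (0, 1) := by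
      rw [← map_smul, ← map_add]; congr 1; ext <;> simp
    rw [hz, hf] at h1
    simpa using (congrArg Prod.fst h1).symm

end Groth.Agent.SerreSplit

namespace Groth.Agent.SerreSplit

universe v

variable {R : Type v} [CommRing R] [IsNoetherianRing R] {d : ℕ} (hdim : ringKrullDim R ≤ d)

theorem rankAtStalk_prod_free {P : Type v} [AddCommGroup P] [Module R P] [Module.Finite R P]
    [Module.Projective R P] {n : ℕ} (hrk : ∀ p : PrimeSpectrum R, Module.rankAtStalk (R := R) P p = n)
    (m : ℕ) (p : PrimeSpectrum R) : Module.rankAtStalk (R := R) (P × (Fin m → R)) p = n + m := by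
  haveI : Nontrivial R := p.nontrivial
  rw [Module.rankAtStalk_prod, Pi.add_apply, hrk, Module.rankAtStalk_eq_finrank_of_free,
    Pi.natCast_apply, Module.finrank_fin_fun]
  simp

/-- `P × R^(m+1) ≅ (P × R^m) × R`. -/
def consEquiv (P : Type v) [AddCommGroup P] [Module R P] (m : ℕ) :
    (P × (Fin (m + 1) → R)) ≃ₗ[R] ((P × (Fin m → R)) × R) where
  toFun z := ((z.1, Fin.tail z.2), z.2 0)
  map_add' _ _ := rfl
  map_smul' _ _ := rfl
  invFun z := (z.1.1, Fin.cons z.2 z.1.2)
  left_inv z := by simp
  right_inv z := by simp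

include hdim

/-- Bass cancellation. -/
theorem cancel {P P' : Type v} [AddCommGroup P] [Module R P] [Module.Finite R P] [Module.Projective R P]
    [AddCommGroup P'] [Module R P'] {n : ℕ}
    (hrk : ∀ p : PrimeSpectrum R, Module.rankAtStalk (R := R) P p = n) (hnd : d < n) :
    ∀ m : ℕ, Nonempty ((P × (Fin m → R)) ≃ₗ[R] (P' × (Fin m → R))) → Nonempty (P ≃ₗ[R] P') := by
  intro m
  induction m with
  | zero =>
    rintro ⟨e⟩
    exact ⟨(LinearEquiv.prodUnique (M₂ := Fin 0 → R)).symm.trans (e.trans LinearEquiv.prodUnique)⟩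
  | succ m ih =>
    rintro ⟨e⟩
    exact ih (cancel_one hdim (rankAtStalk_prod_free hrk m) (by omega)
      ((consEquiv P m).symm.trans (e.trans (consEquiv P' m))))

/-- Serre splitting. -/
theorem split {P : Type v} [AddCommGroup P] [Module R P] [Module.Finite R P] [Module.Projective R P] {n : ℕ}
    (hrk : ∀ p : PrimeSpectrum R, Module.rankAtStalk (R := R) P p = n) : ∀ m : ℕ, d + m ≤ n →
    ∃ P₀ Q : Submodule R P, IsCompl P₀ Q ∧ Nonempty (Q ≃ₗ[R] (Fin m → R)) ∧ Module.Projective R P₀ ∧
      ∀ p : PrimeSpectrum R, Module.rankAtStalk (R := R) P₀ p + m = n := by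
  intro m
  induction m with
  | zero =>
    intro _
    refine ⟨⊤, ⊥, isCompl_top_bot, ⟨LinearEquiv.ofSubsingleton _ _⟩, Module.Projective.of_equiv Submodule.topEquiv.symm, fun p => ?_⟩
    rw [Module.rankAtStalk_eq_of_equiv Submodule.topEquiv, hrk, add_zero]
  | succ m ih =>
    intro hm
    obtain ⟨P₀, Q, hc, ⟨eQ⟩, hproj, hr⟩ := ih (by omega)
    haveI := hproj
    obtain ⟨t, φ, ht⟩ := exists_unimodular (P := P₀) (n := n - m) hdim
      (fun p => by have := hr p; omega) (by omega)
    let E : P ≃ₗ[R] (LinearMap.ker φ) × (Fin (m + 1) → R) :=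
      (Submodule.prodEquivOfIsCompl P₀ Q hc).symm.trans
        { toFun := fun z => (⟨z.1 - φ z.1 • t, by simp [LinearMap.mem_ker, ht]⟩, Fin.cons (φ z.1) (eQ z.2))
          map_add' := fun z w => by
            refine Prod.ext (Subtype.ext ?_) (funext fun i => ?_)
            · simp [add_smul]; abel
            · refine Fin.cases ?_ (fun i => ?_) i <;> simp
          map_smul' := fun r z => by
            refine Prod.ext (Subtype.ext ?_) (funext fun i => ?_)
            · simp [smul_sub, smul_smul]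
            · refine Fin.cases ?_ (fun i => ?_) i <;> simp
          invFun := fun z => ((z.1 : P₀) + z.2 0 • t, eQ.symm (Fin.tail z.2))
          left_inv := fun z => by simp
          right_inv := fun z => by
            have : φ (z.1 : P₀) = 0 := z.1.2
            refine Prod.ext (Subtype.ext ?_) (funext fun i => ?_)
            · simp [ht, this]
            · refine Fin.cases ?_ (fun i => ?_) i <;> simp [ht, this, Fin.tail] }
    let a : (LinearMap.ker φ) →ₗ[R] P := E.symm.toLinearMap.comp (LinearMap.inl R _ _)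
    let b : (Fin (m + 1) → R) →ₗ[R] P := E.symm.toLinearMap.comp (LinearMap.inr R _ _)
    have ha : Function.Injective a := E.symm.injective.comp LinearMap.inl_injective
    have hb : Function.Injective b := E.symm.injective.comp LinearMap.inr_injective
    have hcompl : IsCompl (LinearMap.range a) (LinearMap.range b) := by
      refine ⟨disjoint_iff_inf_le.2 ?_, codisjoint_iff_le_sup.2 fun z _ => ?_⟩
      · rintro _ ⟨⟨u, rfl⟩, ⟨v, hv⟩⟩
        have := congrArg Prod.fst (E.symm.injective hv)
        simp only [LinearMap.inl_apply, LinearMap.inr_apply] at this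
        rw [← this]; simp [a]
      · refine Submodule.mem_sup.2 ⟨a (E z).1, ⟨_, rfl⟩, b (E z).2, ⟨_, rfl⟩, ?_⟩
        show E.symm _ + E.symm _ = z
        rw [← map_add]; simp
    haveI : Module.Finite R (LinearMap.ker φ) := Module.Finite.of_fg (IsNoetherian.noetherian _)
    haveI : Module.Projective R (LinearMap.ker φ) :=
      Module.Projective.of_split a ((LinearMap.fst R _ _).comp E.toLinearMap) (by ext z; simp [a])
    refine ⟨_, _, hcompl, ⟨(LinearEquiv.ofInjective b hb).symm⟩,
      Module.Projective.of_equiv (LinearEquiv.ofInjective a ha), fun p => ?_⟩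
    haveI : Nontrivial R := p.nontrivial
    have h1 : Module.rankAtStalk (R := R) (↥(LinearMap.ker φ) × (Fin (m + 1) → R)) p = n := by
      rw [← Module.rankAtStalk_eq_of_equiv E, hrk]
    rw [Module.rankAtStalk_prod, Pi.add_apply, Module.rankAtStalk_eq_finrank_of_free (R := R) (M := Fin (m + 1) → R), Pi.natCast_apply,
      Module.finrank_fin_fun] at h1
    rw [← Module.rankAtStalk_eq_of_equiv (LinearEquiv.ofInjective a ha)]
    simpa using h1

end Groth.Agent.SerreSplit
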