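import Mathlib

/-!
Serre's general position lemma behind the splitting theorem for modules with Noetherian maximal spectrum.
-/

set_option autoImplicit false
set_option linter.style.haveILetI false

universe u

namespace Groth.Agent.SerreSplit

open TopologicalSpace

variable {R : Type u} [CommRing R] {M : Type u} [AddCommGroup M] [Module R M]

/-- The classes killed by every linear form. -/
abbrev Bq (M : Type u) [AddCommGroup M] [Module R M] (x : MaximalSpectrum R) :
    Submodule (R ⧸ x.asIdeal) (M ⧸ (x.asIdeal • ⊤ : Submodule R M)) :=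
  Submodule.span (R ⧸ x.asIdeal) ((x.asIdeal • ⊤ : Submodule R M).mkQ '' {m : M | ∀ φ : M →ₗ[R] R, φ m ∈ x.asIdeal})

/-- The image of `m` in `V(x)`. -/
abbrev img (x : MaximalSpectrum R) (m : M) : (M ⧸ (x.asIdeal • ⊤ : Submodule R M)) ⧸ Bq M x :=
  (Bq M x).mkQ ((x.asIdeal • ⊤ : Submodule R M).mkQ m)

theorem dual_mem_of_mem_smul_top (x : MaximalSpectrum R) {m : M} (hm : m ∈ (x.asIdeal • ⊤ : Submodule R M))
    (φ : M →ₗ[R] R) : φ m ∈ x.asIdeal := by
  refine Submodule.smul_induction_on hm (fun r hr n _ => ?_) fun a b ha hb => ?_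
  · rw [map_smul, smul_eq_mul]; exact Ideal.mul_mem_right _ _ hr
  · rw [map_add]; exact add_mem ha hb

theorem img_eq_zero {x : MaximalSpectrum R} {m : M} :
    img x m = 0 ↔ ∀ φ : M →ₗ[R] R, φ m ∈ x.asIdeal := by
  rw [img, Submodule.mkQ_apply, Submodule.Quotient.mk_eq_zero]
  refine ⟨fun h => ?_, fun h => Submodule.subset_span ⟨m, h, rfl⟩⟩
  suffices ∀ z ∈ Bq M x, ∃ n : M, (x.asIdeal • ⊤ : Submodule R M).mkQ n = z ∧
      ∀ φ : M →ₗ[R] R, φ n ∈ x.asIdeal by
    obtain ⟨n, hn, hφ⟩ := this _ h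
    intro φ
    have h2 := dual_mem_of_mem_smul_top x ((Submodule.Quotient.eq _).1 hn) φ
    rw [map_sub] at h2
    simpa using sub_mem (hφ φ) h2
  intro z hz
  induction hz using Submodule.span_induction with
  | mem w hw => obtain ⟨n, hn, rfl⟩ := hw; exact ⟨n, rfl, hn⟩
  | zero => exact ⟨0, map_zero _, fun φ => by rw [map_zero]; exact zero_mem _⟩
  | add a b _ _ ha hb =>
    obtain ⟨n, rfl, hn⟩ := ha; obtain ⟨n', rfl, hn'⟩ := hb
    exact ⟨n + n', map_add _ _ _, fun φ => by rw [map_add]; exact add_mem (hn φ) (hn' φ)⟩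
  | smul c a _ ha =>
    obtain ⟨n, rfl, hn⟩ := ha
    obtain ⟨r, rfl⟩ := Ideal.Quotient.mk_surjective c
    exact ⟨r • n, rfl, fun φ => by rw [map_smul, smul_eq_mul]; exact Ideal.mul_mem_left _ _ (hn φ)⟩

theorem img_smul (x : MaximalSpectrum R) (r : R) (m : M) :
    img x (r • m) = Ideal.Quotient.mk x.asIdeal r • img x m := rfl

theorem img_add (x : MaximalSpectrum R) (m n : M) : img x (m + n) = img x m + img x n := by
  simp only [img, map_add]

theorem img_surjective (x : MaximalSpectrum R) : Function.Surjective (img (M := M) x) := fun z => by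
  obtain ⟨w, rfl⟩ := Submodule.Quotient.mk_surjective _ z
  obtain ⟨m, rfl⟩ := Submodule.Quotient.mk_surjective _ w
  exact ⟨m, rfl⟩

theorem img_eq_of_sub_mem (x : MaximalSpectrum R) {m n : M} (h : m - n ∈ (x.asIdeal • ⊤ : Submodule R M)) :
    img x m = img x n :=
  congrArg (Bq M x).mkQ ((Submodule.Quotient.eq _).2 h)

/-- The points where the images of `s` are dependent. -/
def Dep {h : ℕ} (s : Fin h → M) : Set (MaximalSpectrum R) :=
  {x | ¬ LinearIndependent (R ⧸ x.asIdeal) (fun i => img x (s i))}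

theorem isClosed_Dep {h : ℕ} (s : Fin h → M) : IsClosed (Dep (R := R) s) := by
  classical
  rw [← isOpen_compl_iff, isOpen_iff_forall_mem_open]
  intro x hx
  simp only [Dep, Set.mem_compl_iff, Set.mem_ofPred_eq, not_not] at hx
  letI : Field (R ⧸ x.asIdeal) := @Ideal.Quotient.field _ _ x.asIdeal x.isMaximal
  let W : Submodule (R ⧸ x.asIdeal) (Fin h → R ⧸ x.asIdeal) :=
    Submodule.span _ (Set.range fun φ : M →ₗ[R] R => fun i => Ideal.Quotient.mk x.asIdeal (φ (s i)))
  have hW : W = ⊤ := by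
    by_contra hW
    obtain ⟨c, hc, hker⟩ := Submodule.exists_dual_map_eq_bot_of_lt_top (lt_top_iff_ne_top.2 hW)
      inferInstance
    choose cR hcR using fun i => Ideal.Quotient.mk_surjective (c (Pi.single i 1))
    have hz : img x (∑ i, cR i • s i) = 0 := by
      refine img_eq_zero.2 fun φ => Ideal.Quotient.eq_zero_iff_mem.1 ?_
      have h0 : c (fun i => Ideal.Quotient.mk x.asIdeal (φ (s i))) = 0 := by
        rw [← Submodule.mem_bot (R := R ⧸ x.asIdeal), ← hker]
        exact Submodule.mem_map_of_mem (Submodule.subset_span ⟨φ, rfl⟩)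
      rw [← h0, LinearMap.pi_apply_eq_sum_univ c]
      simp only [map_sum, map_smul, smul_eq_mul, map_mul, hcR]
      refine Finset.sum_congr rfl fun i _ => ?_
      rw [mul_comm]
      congr 2
      funext j; simp [Pi.single_apply, eq_comm]
    have hsum : ∑ i, Ideal.Quotient.mk x.asIdeal (cR i) • img x (s i) = 0 := by
      rw [← hz]; simp only [img, map_sum]; rfl
    refine hc (LinearMap.pi_ext' fun i => LinearMap.ext_ring ?_)
    have := Fintype.linearIndependent_iff.1 hx _ hsum i
    rw [hcR] at this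
    simpa using this
  obtain ⟨b, hb, hbspan, hbli⟩ := exists_linearIndependent (R ⧸ x.asIdeal)
    (Set.range fun φ : M →ₗ[R] R => fun i => Ideal.Quotient.mk x.asIdeal (φ (s i)))
  have hbfin : b.Finite := hbli.setFinite
  haveI := hbfin.fintype
  have hcard : Fintype.card b = h := by
    have h1 := finrank_span_set_eq_card (R := R ⧸ x.asIdeal) hbli
    rw [hbspan, show Submodule.span _ _ = W from rfl, hW, finrank_top, Module.finrank_fin_fun,
      Set.toFinset_card] at h1
    exact h1.symm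
  let e : Fin h ≃ b := (finCongr hcard.symm).trans (Fintype.equivFin b).symm
  choose φ hφ using fun j : Fin h => hb (e j).2
  let A : Matrix (Fin h) (Fin h) R := Matrix.of fun j i => φ j (s i)
  refine ⟨{y | A.det ∉ y.asIdeal}, fun y hy => ?_, ?_, ?_⟩
  · simp only [Dep, Set.mem_compl_iff, Set.mem_ofPred_eq, not_not]
    letI : Field (R ⧸ y.asIdeal) := @Ideal.Quotient.field _ _ y.asIdeal y.isMaximal
    refine Fintype.linearIndependent_iff.2 fun g hg => ?_
    choose gR hgR using fun i => Ideal.Quotient.mk_surjective (g i)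
    have hz : img y (∑ i, gR i • s i) = 0 := by
      rw [← hg]; simp only [img, map_sum, ← hgR]; rfl
    have hmul : (A.map (Ideal.Quotient.mk y.asIdeal)).mulVec g = 0 := by
      funext j
      have := Ideal.Quotient.eq_zero_iff_mem.2 (img_eq_zero.1 hz (φ j))
      simp only [map_sum, map_smul, smul_eq_mul, map_mul, hgR] at this
      simp only [Matrix.mulVec, dotProduct, Matrix.map_apply, A, Matrix.of_apply, Pi.zero_apply]
      rw [← this]
      exact Finset.sum_congr rfl fun i _ => mul_comm _ _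
    have hdet : (A.map (Ideal.Quotient.mk y.asIdeal)).det ≠ 0 := by
      rw [← RingHom.mapMatrix_apply, ← RingHom.map_det]
      exact fun h0 => hy (Ideal.Quotient.eq_zero_iff_mem.1 h0)
    exact congrFun (Matrix.eq_zero_of_mulVec_eq_zero hdet hmul)
  · exact MaximalSpectrum.toPrimeSpectrum_continuous.isOpen_preimage _ (PrimeSpectrum.basicOpen A.det).2
  · intro hmem
    have hrows : LinearIndependent (R ⧸ x.asIdeal) (A.map (Ideal.Quotient.mk x.asIdeal)).row := by
      have h2 : (A.map (Ideal.Quotient.mk x.asIdeal)).row = fun j => ((e j : b) : Fin h → R ⧸ x.asIdeal) := by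
        funext j i
        exact congrFun (hφ j) i
      rw [h2]
      exact hbli.comp e e.injective
    have hu : IsUnit (A.map (Ideal.Quotient.mk x.asIdeal)).det :=
      (Matrix.isUnit_iff_isUnit_det _).1 (Matrix.linearIndependent_rows_iff_isUnit.1 hrows)
    refine hu.ne_zero ?_
    rw [← RingHom.mapMatrix_apply, ← RingHom.map_det]
    exact Ideal.Quotient.eq_zero_iff_mem.2 hmem

theorem exists_prescribed {ι : Type*} [Finite ι] (p : ι → MaximalSpectrum R) (hp : Function.Injective p)
    (m : ι → M) : ∃ t : M, ∀ i, img (p i) t = img (p i) (m i) := by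
  classical
  haveI := Fintype.ofFinite ι
  have hcop : Pairwise (Function.onFun IsCoprime fun i => (p i).asIdeal) := fun i j hij =>
    Ideal.isCoprime_iff_sup_eq.2 ((p i).isMaximal.coprime_of_ne (p j).isMaximal
      fun e => hij (hp (MaximalSpectrum.ext e)))
  choose e he using fun i => Ideal.exists_forall_sub_mem_ideal hcop (fun j => if i = j then (1 : R) else 0)
  refine ⟨∑ i, e i • m i, fun j => img_eq_of_sub_mem _ ?_⟩
  have hs : m j = ∑ i, (if i = j then (1 : R) else 0) • m i := by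
    simp [ite_smul]
  rw [hs, ← Finset.sum_sub_distrib]
  exact sum_mem fun i _ => by rw [← sub_smul]; exact Submodule.smul_mem_smul (he i j) trivial

theorem exists_not_mem_span {h : ℕ} (x : MaximalSpectrum R) (s : Fin h → M)
    (hd : h + 1 ≤ Module.finrank (R ⧸ x.asIdeal) ((M ⧸ (x.asIdeal • ⊤ : Submodule R M)) ⧸ Bq M x)) :
    ∃ m : M, img x m ∉ Submodule.span (R ⧸ x.asIdeal) (Set.range fun i => img x (s i)) := by
  letI : Field (R ⧸ x.asIdeal) := @Ideal.Quotient.field _ _ x.asIdeal x.isMaximal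
  by_contra hcon
  push Not at hcon
  have htop : Submodule.span (R ⧸ x.asIdeal) (Set.range fun i => img x (s i)) = ⊤ := eq_top_iff.2 fun z _ => by
    obtain ⟨m, rfl⟩ := img_surjective x z; exact hcon m
  have := finrank_range_le_card (R := R ⧸ x.asIdeal) (fun i => img x (s i))
  rw [Set.finrank, htop, finrank_top, Fintype.card_fin] at this
  omega

/-- Choosing one point in each piece of a closed set that is not inside `F`. -/
theorem exists_pieces [NoetherianSpace (MaximalSpectrum R)] {G : Set (MaximalSpectrum R)} (hG : IsClosed G)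
    (F : Set (MaximalSpectrum R)) :
    ∃ P : Finset (MaximalSpectrum R), ∃ G' : Set (MaximalSpectrum R), IsClosed G' ∧ G' ⊆ G ∧ G \ F ⊆ G' ∧
      (↑P ⊆ G \ F) ∧ ∀ Z : IrreducibleCloseds (MaximalSpectrum R), (Z : Set (MaximalSpectrum R)) ⊆ G' →
        ∃ C : IrreducibleCloseds (MaximalSpectrum R), (C : Set (MaximalSpectrum R)) ⊆ G ∧ Z ≤ C ∧
          ∃ p ∈ P, p ∈ C := by
  classical
  obtain ⟨S, hSf, hSc, hSi, hSG⟩ := NoetherianSpace.exists_finite_set_isClosed_irreducible hG
  set S' := {C ∈ S | (C \ F).Nonempty}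
  have hS'f : S'.Finite := hSf.subset fun C hC => hC.1
  choose pt hpt using fun C : S' => C.2.2
  haveI := hS'f.fintype
  refine ⟨Finset.univ.image pt, ⋃₀ S', by rw [Set.sUnion_eq_biUnion]; exact hS'f.isClosed_biUnion fun C hC => hSc C hC.1,
    fun y ⟨C, hC, hy⟩ => hSG ▸ ⟨C, hC.1, hy⟩, fun y hy => ?_, fun y hy => ?_, fun Z hZ => ?_⟩
  · obtain ⟨C, hC, hyC⟩ := (hSG ▸ hy.1 : y ∈ ⋃₀ S)
    exact ⟨C, ⟨hC, y, hyC, hy.2⟩, hyC⟩
  · obtain ⟨C, -, rfl⟩ := Finset.mem_image.1 (Finset.mem_coe.1 hy)
    exact ⟨hSG ▸ ⟨C.1, C.2.1, (hpt C).1⟩, (hpt C).2⟩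
  · obtain ⟨C, hC, hZC⟩ := isIrreducible_iff_sUnion_isClosed.1 Z.isIrreducible hS'f.toFinset
      (fun C hC => hSc C (hS'f.mem_toFinset.1 hC).1) (by simpa using hZ)
    rw [hS'f.mem_toFinset] at hC
    exact ⟨⟨C, hSi C hC.1, hSc C hC.1⟩, fun y hy => hSG ▸ ⟨C, hC.1, hy⟩, hZC, pt ⟨C, hC⟩,
      Finset.mem_image.2 ⟨_, Finset.mem_univ _, rfl⟩, (hpt ⟨C, hC⟩).1⟩

theorem main [NoetherianSpace (MaximalSpectrum R)] (k : ℕ) : ∀ (h : ℕ) (s : Fin h → M)
    (F : Set (MaximalSpectrum R)), IsClosed F → ∀ (P : Finset (MaximalSpectrum R)), ↑P ⊆ F →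
    ∀ (v : MaximalSpectrum R → M),
    (∀ x : MaximalSpectrum R,
      h + k ≤ Module.finrank (R ⧸ x.asIdeal) ((M ⧸ (x.asIdeal • ⊤ : Submodule R M)) ⧸ Bq M x)) →
    Dep (R := R) s ⊆ F →
    ∃ (t : M) (F' : Set (MaximalSpectrum R)), IsClosed F' ∧ (∀ p ∈ P, img p t = img p (v p)) ∧
      Dep (R := R) (Fin.snoc s t : Fin (h + 1) → M) ⊆ F ∪ F' ∧
      ∀ Z : IrreducibleCloseds (MaximalSpectrum R), (Z : Set (MaximalSpectrum R)) ⊆ F' → (k : ℕ∞) ≤ Order.coheight Z := by
  classical
  induction k with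
  | zero =>
    intro h s F _ P _ v _ _
    obtain ⟨t, ht⟩ := exists_prescribed (fun p : P => p.1) Subtype.val_injective (fun p => v p.1)
    exact ⟨t, Set.univ, isClosed_univ, fun p hp => ht ⟨p, hp⟩, fun x _ => Or.inr trivial, fun Z _ => by simp⟩
  | succ k ih =>
    intro h s F hF P hP v hd hdep
    obtain ⟨t, F1, hF1c, ht, hdep1, hF1⟩ := ih h s F hF P hP v (fun x => by have := hd x; omega) hdep
    obtain ⟨Q, G1, hG1c, hG1F1, hG1, hQ, hC⟩ := exists_pieces hF1c F
    choose w hw using fun z : MaximalSpectrum R => exists_not_mem_span z s (by have := hd z; omega)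
    let v' : MaximalSpectrum R → M := fun z => if z ∈ Q then w z - t else 0
    obtain ⟨u, F2, hF2c, hu, hdep2, hF2⟩ := ih (h + 1) (Fin.snoc s t) (F ∪ F1) (hF.union hF1c) (P ∪ Q)
      (by
        rw [Finset.coe_union]
        exact Set.union_subset (hP.trans Set.subset_union_left) fun z hz => Or.inr (hQ hz).1)
      v' (fun x => by have := hd x; omega) hdep1
    obtain ⟨Q', G2, hG2c, hG2F2, hG2, hQ', hC'⟩ := exists_pieces hF2c (F ∪ F1)
    obtain ⟨a, ha⟩ := Ideal.exists_forall_sub_mem_ideal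
      (I := fun p : (Q ∪ Q' : Finset (MaximalSpectrum R)) => p.1.asIdeal)
      (fun i j hij => Ideal.isCoprime_iff_sup_eq.2 (i.1.isMaximal.coprime_of_ne j.1.isMaximal
        fun e => hij (Subtype.ext (MaximalSpectrum.ext e))))
      (fun p => if p.1 ∈ Q then 1 else 0)
    have himg : ∀ x, img x (t + a • u) = img x t + Ideal.Quotient.mk x.asIdeal a • img x u := fun x => by
      rw [img_add, img_smul]
    have hLI : ∀ x, x ∉ F → LinearIndependent (R ⧸ x.asIdeal) (fun i => img x (s i)) := fun x hx => by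
      by_contra hcon; exact hx (hdep hcon)
    have hsnoc : ∀ x (y : M), (fun i => img x ((Fin.snoc s y : Fin (h + 1) → M) i)) =
        (Fin.snoc (fun i => img x (s i)) (img x y) :
          Fin (h + 1) → (M ⧸ (x.asIdeal • ⊤ : Submodule R M)) ⧸ Bq M x) := fun x y => Fin.comp_snoc (img x) s y
    refine ⟨t + a • u, Dep (R := R) (Fin.snoc s (t + a • u) : Fin (h + 1) → M) ∩ (G1 ∪ G2),
      (isClosed_Dep _).inter (hG1c.union hG2c), fun p hp => ?_, fun x hx => ?_, fun Z hZ => ?_⟩
    · have hpQ : p ∉ Q := fun hq => (hQ hq).2 (hP hp)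
      rw [himg, hu p (Finset.mem_union_left _ hp), ht p hp]
      simp [v', hpQ, img]
    · by_cases hxF : x ∈ F
      · exact Or.inl hxF
      refine Or.inr ⟨hx, ?_⟩
      by_cases hxF1 : x ∈ F1
      · exact Or.inl (hG1 ⟨hxF1, hxF⟩)
      by_cases hxF2 : x ∈ F2
      · exact Or.inr (hG2 ⟨hxF2, fun hh => hh.elim hxF hxF1⟩)
      exfalso
      letI : Field (R ⧸ x.asIdeal) := @Ideal.Quotient.field _ _ x.asIdeal x.isMaximal
      have h2 : ¬ x ∈ Dep (R := R) (Fin.snoc (Fin.snoc s t : Fin (h + 1) → M) u : Fin (h + 1 + 1) → M) := fun hh =>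
        (hdep2 hh).elim (fun h' => h'.elim hxF hxF1) hxF2
      simp only [Dep, Set.mem_ofPred_eq, not_not] at h2 hx
      rw [show (fun i => img x ((Fin.snoc (Fin.snoc s t : Fin (h + 1) → M) u : Fin (h + 1 + 1) → M) i)) =
        Fin.snoc (fun i => img x ((Fin.snoc s t : Fin (h + 1) → M) i)) (img x u) from Fin.comp_snoc (img x) _ u,
        linearIndependent_finSnoc, hsnoc, linearIndependent_finSnoc, Fin.range_snoc] at h2
      obtain ⟨⟨hs, ht'⟩, hu'⟩ := h2
      refine hx ?_
      rw [hsnoc, linearIndependent_finSnoc]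
      refine ⟨hs, fun hmem => ?_⟩
      rw [himg] at hmem
      by_cases hc : Ideal.Quotient.mk x.asIdeal a = 0
      · rw [hc, zero_smul, add_zero] at hmem; exact ht' hmem
      · refine hu' ?_
        rw [Submodule.span_insert]
        refine (Submodule.smul_mem_iff _ hc).1 ?_
        have e : Ideal.Quotient.mk x.asIdeal a • img x u =
            (img x t + Ideal.Quotient.mk x.asIdeal a • img x u) - img x t := by abel
        rw [e]
        exact sub_mem (Submodule.mem_sup_right hmem) (Submodule.mem_sup_left (Submodule.mem_span_singleton_self _))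
    · have hZd : ∀ z, z ∈ (Z : Set (MaximalSpectrum R)) → z ∈ Dep (R := R) (Fin.snoc s (t + a • u) : Fin (h + 1) → M) :=
        fun z hz => (hZ hz).1
      obtain ⟨C, hCk, hle, p, hpPts, hpC⟩ : ∃ C : IrreducibleCloseds (MaximalSpectrum R),
          (k : ℕ∞) ≤ Order.coheight C ∧ Z ≤ C ∧ ∃ p, p ∈ Q ∪ Q' ∧ p ∈ C := by
        rcases isPreirreducible_iff_isClosed_union_isClosed.1 Z.isIrreducible.2 G1 G2 hG1c hG2c
          (fun z hz => (hZ hz).2) with hz | hz
        · obtain ⟨C, hCsub, hle, p, hp, hpC⟩ := hC Z hz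
          exact ⟨C, hF1 C hCsub, hle, p, Finset.mem_union_left _ hp, hpC⟩
        · obtain ⟨C, hCsub, hle, p, hp, hpC⟩ := hC' Z hz
          exact ⟨C, hF2 C hCsub, hle, p, Finset.mem_union_right _ hp, hpC⟩
      rcases hle.lt_or_eq with hlt | heq
      · calc ((k + 1 : ℕ) : ℕ∞) = k + 1 := by push_cast; rfl
          _ ≤ Order.coheight C + 1 := by gcongr
          _ ≤ Order.coheight Z := Order.coheight_add_one_le hlt
      · exfalso
        subst heq
        have hpd := hZd p hpC
        have hap : Ideal.Quotient.mk p.asIdeal a = if p ∈ Q then 1 else 0 := by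
          rw [Ideal.Quotient.eq.2 (ha ⟨p, hpPts⟩)]
          split_ifs <;> simp
        simp only [Dep, Set.mem_ofPred_eq] at hpd
        rw [hsnoc, himg, hap] at hpd
        letI : Field (R ⧸ p.asIdeal) := @Ideal.Quotient.field _ _ p.asIdeal p.isMaximal
        refine hpd (linearIndependent_finSnoc.2 ⟨?_, ?_⟩)
        · by_cases hpQ : p ∈ Q
          · exact hLI p (hQ hpQ).2
          · exact hLI p fun hh => (hQ' ((Finset.mem_union.1 hpPts).resolve_left hpQ)).2 (Or.inl hh)
        · by_cases hpQ : p ∈ Q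
          · rw [if_pos hpQ, one_smul, hu p (Finset.mem_union_right _ hpQ)]
            simp only [v', if_pos hpQ, img, map_sub]
            simpa using hw p
          · rw [if_neg hpQ, zero_smul, add_zero]
            have hp2 := (hQ' ((Finset.mem_union.1 hpPts).resolve_left hpQ)).2
            have hnd : p ∉ Dep (R := R) (Fin.snoc s t : Fin (h + 1) → M) := fun hh => hp2 (hdep1 hh)
            simp only [Dep, Set.mem_ofPred_eq, not_not] at hnd
            rw [hsnoc, linearIndependent_finSnoc] at hnd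
            exact hnd.2

end Groth.Agent.SerreSplit
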